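import Groth.Prelude.Def_Flat
import Mathlib

/-!
# Universal homeomorphisms
-/

open CategoryTheory CategoryTheory.Limits AlgebraicGeometry

universe u

set_option backward.isDefEq.respectTransparency false
set_option backward.defeqAttrib.useBackward true

namespace Groth.Agent.UnivHomeo

variable {X Y : Scheme.{u}}

theorem isHomeomorph {f : X ⟶ Y} (h : FlatMor.IsUnivHomeo f) : IsHomeomorph f.base :=
  MorphismProperty.universally_le (topologically (fun f => IsHomeomorph f) : MorphismProperty Scheme.{u}) f h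

theorem universallyClosed {f : X ⟶ Y} (h : FlatMor.IsUnivHomeo f) : UniversallyClosed f :=
  ⟨fun _ _ i₁ i₂ f' hp => (h i₁ i₂ f' hp).isClosedMap⟩

theorem universallyInjective {f : X ⟶ Y} (h : FlatMor.IsUnivHomeo f) : UniversallyInjective f :=
  ⟨fun _ _ i₁ i₂ f' hp => (h i₁ i₂ f' hp).injective⟩

theorem surjective {f : X ⟶ Y} (h : FlatMor.IsUnivHomeo f) : Surjective f :=
  ⟨(isHomeomorph h).surjective⟩

theorem isAffineHom {f : X ⟶ Y} (h : FlatMor.IsUnivHomeo f) : IsAffineHom f :=
  isAffineHom_of_isInducing (f := f) (isHomeomorph h).isInducing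
    (by rw [(isHomeomorph h).surjective.range_eq]; exact isClosed_univ)

theorem isIntegralHom {f : X ⟶ Y} (h : FlatMor.IsUnivHomeo f) : IsIntegralHom f :=
  IsIntegralHom.iff_universallyClosed_and_isAffineHom.mpr ⟨universallyClosed h, isAffineHom h⟩

theorem of_isIntegralHom (f : X ⟶ Y) [IsIntegralHom f] [UniversallyInjective f] [Surjective f] :
    FlatMor.IsUnivHomeo f := by
  intro X' Y' i₁ i₂ f' hp
  have h1 : IsIntegralHom f' := MorphismProperty.of_isPullback (P := @IsIntegralHom) hp.flip ‹_›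
  have h2 : UniversallyInjective f' :=
    MorphismProperty.of_isPullback (P := @UniversallyInjective) hp.flip ‹_›
  have h3 : Surjective f' := MorphismProperty.of_isPullback (P := @Surjective) hp.flip ‹_›
  exact isHomeomorph_iff_continuous_isClosedMap_bijective.mpr
    ⟨f'.continuous, f'.isClosedMap, f'.injective, h3.1⟩

theorem iff_integral {f : X ⟶ Y} :
    FlatMor.IsUnivHomeo f ↔ IsIntegralHom f ∧ UniversallyInjective f ∧ Surjective f :=
  ⟨fun h => ⟨isIntegralHom h, universallyInjective h, surjective h⟩,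
    fun ⟨_, _, _⟩ => of_isIntegralHom f⟩

variable {A B : Type u} [CommRing A] [CommRing B]

/-- The value of `b` in the residue field at a point of `Spec B`. -/
noncomputable def ev (x : Spec (CommRingCat.of B)) :
    B →+* (Spec (CommRingCat.of B)).residueField x :=
  ((Scheme.ΓSpecIso (CommRingCat.of B)).inv ≫ (Spec (CommRingCat.of B)).Γevaluation x).hom

theorem ev_eq (x : Spec (CommRingCat.of B)) (b : B) :
    ev x b = (Scheme.Spec.residueFieldIso (CommRingCat.of B) x).inv (algebraMap B x.asIdeal.ResidueField b) := by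
  have h := Scheme.Spec.algebraMap_residueFieldIso_inv (CommRingCat.of B) x
  exact (congrFun (congrArg (fun g : CommRingCat.of B ⟶ (Spec (CommRingCat.of B)).residueField x =>
    (g : B → (Spec (CommRingCat.of B)).residueField x)) h) b).symm

theorem ev_eq_zero (x : Spec (CommRingCat.of B)) (b : B) : ev x b = 0 ↔ b ∈ x.asIdeal := by
  rw [ev_eq, map_eq_zero_iff _ (ConcreteCategory.bijective_of_isIso _).injective]
  exact Ideal.algebraMap_residueField_eq_zero

theorem exists_div_ev (x : Spec (CommRingCat.of B)) (z : (Spec (CommRingCat.of B)).residueField x) :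
    ∃ b s, s ∉ x.asIdeal ∧ z = ev x b / ev x s := by
  obtain ⟨w, rfl⟩ := (ConcreteCategory.bijective_of_isIso
    (Scheme.Spec.residueFieldIso (CommRingCat.of B) x).inv).surjective z
  obtain ⟨b', s', hs', e⟩ := IsFractionRing.div_surjective (A := B ⧸ x.asIdeal)
    (w : x.asIdeal.ResidueField)
  obtain ⟨b, rfl⟩ := Ideal.Quotient.mk_surjective b'
  obtain ⟨s, rfl⟩ := Ideal.Quotient.mk_surjective s'
  refine ⟨b, s, fun h => nonZeroDivisors.ne_zero hs' (Ideal.Quotient.eq_zero_iff_mem.mpr h), ?_⟩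
  rw [ev_eq, ev_eq, ← map_div₀]
  exact congrArg _ e.symm

theorem residueFieldMap_ev (φ : A →+* B) (x : Spec (CommRingCat.of B)) (a : A) :
    (Spec.map (CommRingCat.ofHom φ)).residueFieldMap x (ev (Spec.map (CommRingCat.ofHom φ) x) a) =
      ev x (φ a) := by
  refine (Scheme.Γevaluation_naturality_apply (Spec.map (CommRingCat.ofHom φ)) x _).trans ?_
  exact congrArg _ (congrFun (congrArg (fun g : CommRingCat.of A ⟶ Γ(Spec (CommRingCat.of B), ⊤) =>
    (g : A → Γ(Spec (CommRingCat.of B), ⊤))) (Scheme.ΓSpecIso_inv_naturality (CommRingCat.ofHom φ)).symm) a)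

theorem charP_of_prime_expChar {R : Type u} [CommRing R] (q : ℕ) [hE : ExpChar R q] (hq : q.Prime) :
    CharP R q := by
  cases hE with
  | zero => exact absurd hq Nat.not_prime_one
  | prime _ => assumption

/-- The residue extensions of a radicial morphism of affine schemes. -/
theorem exists_pow_sub_mem (φ : A →+* B) [UniversallyInjective (Spec.map (CommRingCat.ofHom φ))]
    (q : Ideal B) [q.IsPrime] (b : B) :
    ∃ (m : ℕ) (c s : A), φ s ∉ q ∧ (m = 1 ∨ ∃ p e : ℕ, p.Prime ∧ (p : B) ∈ q ∧ m = p ^ e) ∧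
      φ s * b ^ m - φ c ∈ q := by
  let x : Spec (CommRingCat.of B) := ⟨q, ‹_›⟩
  have hp := (((tfae_universallyInjective (Spec.map (CommRingCat.ofHom φ))).out 0 2 :
    UniversallyInjective (Spec.map (CommRingCat.ofHom φ)) ↔
      Function.Injective (Spec.map (CommRingCat.ofHom φ)) ∧
        ∀ x, ((Spec.map (CommRingCat.ofHom φ)).residueFieldMap x).hom.IsPurelyInseparable).mp ‹_›).2 x
  let g := (Spec.map (CommRingCat.ofHom φ)).residueFieldMap x
  letI := g.hom.toAlgebra
  have hp' : IsPurelyInseparable ((Spec (CommRingCat.of A)).residueField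
      (Spec.map (CommRingCat.ofHom φ) x)) ((Spec (CommRingCat.of B)).residueField x) := hp
  let q₀ := ringExpChar ((Spec (CommRingCat.of A)).residueField (Spec.map (CommRingCat.ofHom φ) x))
  obtain ⟨n, w, hw⟩ := (isPurelyInseparable_iff_pow_mem _ q₀).mp hp' (ev x b)
  obtain ⟨c, s, hs, rfl⟩ := exists_div_ev _ w
  have hs' : φ s ∉ q := hs
  have hs0 : ev x (φ s) ≠ 0 := fun h => hs' ((ev_eq_zero x _).mp h)
  have hw' : ev x (φ c) / ev x (φ s) = ev x b ^ q₀ ^ n := by
    rw [← hw, ← residueFieldMap_ev φ x, ← residueFieldMap_ev φ x, ← map_div₀]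
    rfl
  refine ⟨q₀ ^ n, c, s, hs', ?_, (ev_eq_zero x _).mp ?_⟩
  · rcases expChar_is_prime_or_one
      ((Spec (CommRingCat.of A)).residueField (Spec.map (CommRingCat.ofHom φ) x)) q₀ with h | h
    · refine Or.inr ⟨q₀, n, h, (ev_eq_zero x _).mp ?_, rfl⟩
      haveI : Fact q₀.Prime := ⟨h⟩
      have hchar : CharP ((Spec (CommRingCat.of A)).residueField (Spec.map (CommRingCat.ofHom φ) x)) q₀ :=
        charP_of_prime_expChar _ h
      rw [map_natCast, ← map_natCast g.hom, CharP.cast_eq_zero, map_zero]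
    · exact Or.inl (by rw [h, one_pow])
  · rw [map_sub, map_mul, map_pow, ← hw', mul_div_cancel₀ _ hs0, sub_self]

theorem exists_sub_mem_of_surjective (φ : A →+* B)
    (hφ : ∀ x, Function.Surjective ((Spec.map (CommRingCat.ofHom φ)).residueFieldMap x))
    (q : Ideal B) [q.IsPrime] (b : B) : ∃ c s : A, φ s ∉ q ∧ φ s * b - φ c ∈ q := by
  let x : Spec (CommRingCat.of B) := ⟨q, ‹_›⟩
  obtain ⟨w, hw⟩ := hφ x (ev x b)
  obtain ⟨c, s, hs, rfl⟩ := exists_div_ev _ w
  have hs' : φ s ∉ q := hs
  have hs0 : ev x (φ s) ≠ 0 := fun h => hs' ((ev_eq_zero x _).mp h)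
  refine ⟨c, s, hs', (ev_eq_zero x _).mp ?_⟩
  rw [map_sub, map_mul, ← hw, map_div₀, residueFieldMap_ev, residueFieldMap_ev,
    mul_div_cancel₀ _ hs0, sub_self]

end Groth.Agent.UnivHomeo
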