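import Groth.Agent.UnivHomeo.Subintegral
import Mathlib

/-!
# Universal homeomorphisms of affine schemes and chains of elementary steps
-/

open CategoryTheory CategoryTheory.Limits AlgebraicGeometry

universe u

set_option backward.isDefEq.respectTransparency false
set_option backward.defeqAttrib.useBackward true

namespace Groth.Agent.UnivHomeo

variable {A B : Type u} [CommRing A] [CommRing B] [Algebra A B]

local notation "φ" => Spec.map (CommRingCat.ofHom (algebraMap A B))

theorem isIntegral_of_chains {weak : Prop}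
    (h : ∀ b : B, ∃ l : List B, Valid A weak l ∧ b ∈ Algebra.adjoin A {c : B | c ∈ l}) :
    Algebra.IsIntegral A B := ⟨fun b => by
  obtain ⟨l, hl, hb⟩ := h b
  refine le_of_step (integralClosure A B) (fun x hx => ?_) hl hb
  rcases hx with ⟨h1, -⟩ | ⟨-, p, hp, -, h2⟩
  · exact IsIntegral.of_pow two_pos h1
  · exact IsIntegral.of_pow hp.pos h2⟩

theorem hom_ext_of_chains {weak : Prop}
    (h : ∀ b : B, ∃ l : List B, Valid A weak l ∧ b ∈ Algebra.adjoin A {c : B | c ∈ l})
    {K : Type u} [Field K] (g g' : B →+* K)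
    (hg : g.comp (algebraMap A B) = g'.comp (algebraMap A B)) : g = g' := by
  let S : Subalgebra A B :=
    { RingHom.eqLocus g g' with algebraMap_mem' := fun a => DFunLike.congr_fun hg a }
  refine RingHom.ext fun b => ?_
  obtain ⟨l, hl, hb⟩ := h b
  refine le_of_step S (fun x hx => ?_) hl hb
  show g x = g' x
  rcases hx with ⟨h1, h2⟩ | ⟨-, p, hp, h1, h2⟩
  · have h1' : g x ^ 2 = g' x ^ 2 := by rw [← map_pow, ← map_pow]; exact h1
    have h2' : g x ^ 3 = g' x ^ 3 := by rw [← map_pow, ← map_pow]; exact h2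
    rcases eq_or_ne (g x) 0 with h0 | h0
    · rw [h0, zero_pow two_ne_zero] at h1'
      rw [h0]
      exact (pow_eq_zero_iff two_ne_zero).mp h1'.symm |>.symm
    · rw [pow_succ, pow_succ (g' x) 2, ← h1'] at h2'
      exact mul_left_cancel₀ (pow_ne_zero 2 h0) h2'
  · have h1' : (p : K) * g x = (p : K) * g' x := by
      rw [← map_natCast g, ← map_mul, map_natCast g, ← map_natCast g', ← map_mul]; exact h1
    have h2' : g x ^ p = g' x ^ p := by rw [← map_pow, ← map_pow]; exact h2
    by_cases hp0 : (p : K) = 0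
    · haveI : Fact p.Prime := ⟨hp⟩
      haveI : CharP K p := CharP.charP_iff_prime_eq_zero hp |>.mpr hp0
      exact frobenius_inj K p h2'
    · exact mul_left_cancel₀ hp0 h1'

theorem isUnivHomeo_of_chains' {weak : Prop} [Surjective φ]
    (h : ∀ b : B, ∃ l : List B, Valid A weak l ∧ b ∈ Algebra.adjoin A {c : B | c ∈ l}) :
    FlatMor.IsUnivHomeo φ := by
  have hint := isIntegral_of_chains h
  have : IsIntegralHom φ :=
    IsIntegralHom.SpecMap_iff.mpr (algebraMap_isIntegral_iff.mpr hint)
  have : UniversallyInjective φ := by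
    refine ((tfae_universallyInjective φ).out 1 0 :
      (∀ (K : Type u) [Field K], Function.Injective fun g : Spec (.of K) ⟶ _ => g ≫ φ) ↔
        UniversallyInjective φ).mp fun K _ g g' hg => ?_
    obtain ⟨g, rfl⟩ := Spec.map_surjective g
    obtain ⟨g', rfl⟩ := Spec.map_surjective g'
    have hg' : CommRingCat.ofHom (algebraMap A B) ≫ g = CommRingCat.ofHom (algebraMap A B) ≫ g' :=
      Spec.map_injective (by simpa only [Spec.map_comp] using hg)
    exact congrArg Spec.map (CommRingCat.hom_ext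
      (hom_ext_of_chains h g.hom g'.hom (congrArg CommRingCat.Hom.hom hg')))
  exact of_isIntegralHom φ

theorem isUnivHomeo_of_chains {weak : Prop} (hinj : Function.Injective (algebraMap A B))
    (h : ∀ b : B, ∃ l : List B, Valid A weak l ∧ b ∈ Algebra.adjoin A {c : B | c ∈ l}) :
    FlatMor.IsUnivHomeo φ := by
  have : Surjective φ :=
    ⟨(algebraMap_isIntegral_iff.mpr (isIntegral_of_chains h)).comap_surjective hinj⟩
  exact isUnivHomeo_of_chains' h

theorem residueFieldMap_surjective_of_chains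
    (h : ∀ b : B, ∃ l : List B, Valid A False l ∧ b ∈ Algebra.adjoin A {c : B | c ∈ l})
    (x : Spec (CommRingCat.of B)) : Function.Surjective ((φ).residueFieldMap x) := by
  let R := ((φ).residueFieldMap x).hom.range
  have hdiv : ∀ {a b}, a ∈ R → b ∈ R → a / b ∈ R := fun {a b} ha hb => by
    obtain ⟨a', rfl⟩ := ha; obtain ⟨b', rfl⟩ := hb
    exact ⟨a' / b', map_div₀ _ _ _⟩
  let S : Subalgebra A B :=
    { R.comap (ev x) with
      algebraMap_mem' := fun a => ⟨_, residueFieldMap_ev (algebraMap A B) x a⟩ }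
  have hS : ∀ b, b ∈ S := fun b => by
    obtain ⟨l, hl, hb⟩ := h b
    refine le_of_step S (fun y hy => ?_) hl hb
    rcases hy with ⟨h1, h2⟩ | ⟨hf, -⟩
    · show ev x y ∈ R
      rcases eq_or_ne (ev x y) 0 with h0 | h0
      · rw [h0]; exact R.zero_mem
      · have : ev x y = ev x (y ^ 3) / ev x (y ^ 2) := by
          rw [map_pow, map_pow, eq_div_iff (pow_ne_zero 2 h0)]; ring
        rw [this]
        exact hdiv h2 h1
    · exact hf.elim
  intro z
  obtain ⟨b, s, -, rfl⟩ := exists_div_ev x z
  exact hdiv (hS b) (hS s)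

theorem reach_eq_top [Algebra.IsIntegral A B] [UniversallyInjective φ] {weak : Prop}
    (h : weak ∨ ∀ x, Function.Surjective ((φ).residueFieldMap x)) (b : B) :
    b ∈ (reach A weak : Subalgebra A B) := by
  refine mem_of_closed _ (fun q q' hq hq' he => ?_)
    (fun x h2 h3 => reach_step (Or.inl ⟨h2, h3⟩)) (fun q hq c => ?_) b
  · have := (φ).injective (a₁ := ⟨q, hq⟩) (a₂ := ⟨q', hq'⟩) (PrimeSpectrum.ext he)
    exact congrArg PrimeSpectrum.asIdeal this
  · haveI := hq
    rcases h with h | h
    · obtain ⟨m, a, s, hs, hm, he⟩ := exists_pow_sub_mem (algebraMap A B) q c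
      exact ⟨m, a, s, hs, hm.imp id fun ⟨p, e, hp, hpq, hme⟩ =>
        ⟨p, e, hp, hpq, hme, fun x h1 h2 => reach_step (Or.inr ⟨h, p, hp, h1, h2⟩)⟩, he⟩
    · obtain ⟨a, s, hs, he⟩ := exists_sub_mem_of_surjective (algebraMap A B) h q c
      exact ⟨1, a, s, hs, Or.inl rfl, by rw [pow_one]; exact he⟩

theorem chains_of_isUnivHomeo (hu : FlatMor.IsUnivHomeo φ) {weak : Prop}
    (h : weak ∨ ∀ x, Function.Surjective ((φ).residueFieldMap x)) (E : Finset B) :
    ∃ l : List B, Valid A weak l ∧ (E : Set B) ⊆ Algebra.adjoin A {c : B | c ∈ l} := by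
  have := universallyInjective hu
  have : Algebra.IsIntegral A B :=
    algebraMap_isIntegral_iff.mp (IsIntegralHom.SpecMap_iff.mp (isIntegralHom hu))
  exact exists_chain (reach_eq_top h) E

end Groth.Agent.UnivHomeo
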