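import Groth.Agent.UnivHomeo.Criteria
import Mathlib

/-!
# Universal homeomorphisms as filtered colimits of finitely presented ones
-/

open CategoryTheory CategoryTheory.Limits AlgebraicGeometry MvPolynomial

universe u

set_option backward.isDefEq.respectTransparency false
set_option backward.defeqAttrib.useBackward true

namespace Groth.Agent.UnivHomeo

variable (A B : Type u) [CommRing A] [CommRing B] [Algebra A B]

/-- A finitely presented stage over `B` consisting of a chain of elementary steps. -/
structure Stage (weak : Prop) : Type u where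
  /-- the variables -/
  S : Finset B
  /-- the relations -/
  I : Ideal (MvPolynomial S A)
  fg : I.FG
  le : I ≤ RingHom.ker (aeval (R := A) (Subtype.val : S → B))
  good : ∀ b : MvPolynomial S A ⧸ I, ∃ l : List (MvPolynomial S A ⧸ I),
    Valid A weak l ∧ b ∈ Algebra.adjoin A {c | c ∈ l}

variable {A B} {weak : Prop}

/-- Renaming along an inclusion of finite sets. -/
noncomputable def ren {S T : Finset B} (h : S ⊆ T) : MvPolynomial S A →ₐ[A] MvPolynomial T A :=
  rename fun x => ⟨x.1, h x.2⟩

theorem aeval_ren {S T : Finset B} (h : S ⊆ T) (P : MvPolynomial S A) :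
    aeval (R := A) (Subtype.val : T → B) (ren h P) = aeval (R := A) (Subtype.val : S → B) P := by
  rw [ren, aeval_rename]; rfl

theorem ren_ren {S T U : Finset B} (h : S ⊆ T) (h' : T ⊆ U) (P : MvPolynomial S A) :
    ren h' (ren h P) = ren (A := A) (h.trans h') P := by
  simp only [ren, rename_rename]; rfl

theorem map_le_ker {S T : Finset B} (h : S ⊆ T) {I : Ideal (MvPolynomial S A)}
    (hI : I ≤ RingHom.ker (aeval (R := A) (Subtype.val : S → B))) :
    I.map (ren h) ≤ RingHom.ker (aeval (R := A) (Subtype.val : T → B)) := by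
  rw [Ideal.map_le_iff_le_comap]
  intro P hP
  show aeval (R := A) (Subtype.val : T → B) (ren h P) = 0
  rw [aeval_ren]
  exact hI hP

theorem exists_stage_ge (hc : ∀ E : Finset B, ∃ l : List B, Valid A weak l ∧
      (E : Set B) ⊆ Algebra.adjoin A {c : B | c ∈ l})
    (S₀ : Finset B) (I₀ : Ideal (MvPolynomial S₀ A)) (hfg : I₀.FG)
    (hle : I₀ ≤ RingHom.ker (aeval (R := A) (Subtype.val : S₀ → B))) :
    ∃ (j : Stage A B weak) (h : S₀ ⊆ j.S), I₀.map (ren h) ≤ j.I := by
  classical
  obtain ⟨l, hl, hlS⟩ := hc S₀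
  let T := S₀ ∪ l.toFinset
  have hlT : ∀ b ∈ l, b ∈ T := fun b hb => Finset.mem_union_right _ (List.mem_toFinset.mpr hb)
  let α : MvPolynomial T A →ₐ[A] B := aeval Subtype.val
  let v : Fin l.length → MvPolynomial T A := fun i => X ⟨l.get i, hlT _ (List.get_mem l i)⟩
  have hv : ∀ i, α (v i) = l.get i := fun i => aeval_X _ _
  have hlift : ∀ (i : Fin l.length) (b : B), b ∈ Algebra.adjoin A (Pre l i) →
      ∃ P ∈ Algebra.adjoin A (v '' {j | j < i}), α P = b := fun i b hb => by
    have hPre : Pre l i = α '' (v '' {j | j < i}) := by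
      rw [Set.image_image]
      ext c
      exact ⟨fun ⟨j, hj, e⟩ => ⟨j, hj, (hv j).trans e.symm⟩, fun ⟨j, hj, e⟩ => ⟨j, hj, e.symm.trans (hv j)⟩⟩
    rw [hPre, Algebra.adjoin_image] at hb
    obtain ⟨P, hP, e⟩ := hb
    exact ⟨P, hP, e⟩
  have hstep : ∀ i : Fin l.length, ∃ R : Finset (MvPolynomial T A), (∀ r ∈ R, α r = 0) ∧
      ∀ (I : Ideal (MvPolynomial T A)), (∀ r ∈ R, r ∈ I) →
        Step weak (Algebra.adjoin A ((Ideal.Quotient.mkₐ A I) '' (v '' {j | j < i})) :
          Set (MvPolynomial T A ⧸ I)) (Ideal.Quotient.mkₐ A I (v i)) := fun i => by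
    rcases hl i with ⟨h1, h2⟩ | ⟨hw, p, hp, h1, h2⟩
    · obtain ⟨P, hP, eP⟩ := hlift i _ h1
      obtain ⟨Q, hQ, eQ⟩ := hlift i _ h2
      refine ⟨{v i ^ 2 - P, v i ^ 3 - Q}, ?_, fun I hI => Or.inl ⟨?_, ?_⟩⟩
      · intro r hr
        simp only [Finset.mem_insert, Finset.mem_singleton] at hr
        rcases hr with rfl | rfl
        · rw [map_sub, map_pow, hv, eP, sub_self]
        · rw [map_sub, map_pow, hv, eQ, sub_self]
      · rw [← map_pow, Ideal.Quotient.mkₐ_eq_mk,
          Ideal.Quotient.eq.mpr (hI (v i ^ 2 - P) (by simp)), ← Ideal.Quotient.mkₐ_eq_mk A,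
          Algebra.adjoin_image]
        exact ⟨P, hP, rfl⟩
      · rw [← map_pow, Ideal.Quotient.mkₐ_eq_mk,
          Ideal.Quotient.eq.mpr (hI (v i ^ 3 - Q) (by simp)), ← Ideal.Quotient.mkₐ_eq_mk A,
          Algebra.adjoin_image]
        exact ⟨Q, hQ, rfl⟩
    · obtain ⟨P, hP, eP⟩ := hlift i _ h1
      obtain ⟨Q, hQ, eQ⟩ := hlift i _ h2
      refine ⟨{(p : MvPolynomial T A) * v i - P, v i ^ p - Q}, ?_,
        fun I hI => Or.inr ⟨hw, p, hp, ?_, ?_⟩⟩
      · intro r hr
        simp only [Finset.mem_insert, Finset.mem_singleton] at hr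
        rcases hr with rfl | rfl
        · rw [map_sub, map_mul, map_natCast, hv, eP, sub_self]
        · rw [map_sub, map_pow, hv, eQ, sub_self]
      · rw [← map_natCast (Ideal.Quotient.mkₐ A I) p, ← map_mul, Ideal.Quotient.mkₐ_eq_mk,
          Ideal.Quotient.eq.mpr (hI ((p : MvPolynomial T A) * v i - P) (by simp)),
          ← Ideal.Quotient.mkₐ_eq_mk A, Algebra.adjoin_image]
        exact ⟨P, hP, rfl⟩
      · rw [← map_pow, Ideal.Quotient.mkₐ_eq_mk,
          Ideal.Quotient.eq.mpr (hI (v i ^ p - Q) (by simp)), ← Ideal.Quotient.mkₐ_eq_mk A,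
          Algebra.adjoin_image]
        exact ⟨Q, hQ, rfl⟩
  choose R hR hRstep using hstep
  have hgen : ∀ t : T, ∃ P ∈ Algebra.adjoin A (Set.range v), α P = t.1 := fun t => by
    have ht : t.1 ∈ Algebra.adjoin A {c : B | c ∈ l} := by
      rcases Finset.mem_union.mp t.2 with h | h
      · exact hlS h
      · exact Algebra.subset_adjoin (List.mem_toFinset.mp h)
    have hset : {c : B | c ∈ l} = α '' Set.range v := by
      rw [← Set.range_comp]
      ext c
      constructor
      · intro hc
        obtain ⟨i, rfl⟩ := List.get_of_mem hc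
        exact ⟨i, hv i⟩
      · rintro ⟨i, rfl⟩
        show α (v i) ∈ l
        rw [hv]; exact List.get_mem l i
    rw [hset, Algebra.adjoin_image] at ht
    obtain ⟨P, hP, e⟩ := ht
    exact ⟨P, hP, e⟩
  choose G hG hGe using hgen
  have hST : S₀ ⊆ T := Finset.subset_union_left
  let R' : Finset (MvPolynomial T A) :=
    Finset.univ.biUnion R ∪ Finset.univ.image fun t => X t - G t
  let I : Ideal (MvPolynomial T A) := I₀.map (ren hST) ⊔ Ideal.span (R' : Set (MvPolynomial T A))
  have hRI : ∀ r ∈ R', r ∈ I := fun r hr => Ideal.mem_sup_right (Ideal.subset_span hr)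
  refine ⟨{ S := T, I := I,
            fg := Submodule.FG.sup (hfg.map _) ⟨R', rfl⟩,
            le := sup_le (map_le_ker hST hle) (Ideal.span_le.mpr ?_),
            good := ?_ }, hST, le_sup_left⟩
  · intro r hr
    rcases Finset.mem_union.mp (Finset.mem_coe.mp hr) with h | h
    · obtain ⟨i, -, hi⟩ := Finset.mem_biUnion.mp h
      exact hR i r hi
    · obtain ⟨t, -, rfl⟩ := Finset.mem_image.mp h
      show α (X t - G t) = 0
      rw [map_sub, hGe, aeval_X, sub_self]
  · intro b
    let y := fun i => Ideal.Quotient.mkₐ A I (v i)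
    have hget : ∀ (i : Fin (List.ofFn y).length),
        (List.ofFn y).get i = y (i.cast (List.length_ofFn)) := fun i => by simp; rfl
    refine ⟨List.ofFn y, fun i => ?_, ?_⟩
    · rw [hget]
      refine (hRstep _ I fun r hr => hRI r
        (Finset.mem_union_left _ (Finset.mem_biUnion.mpr ⟨_, Finset.mem_univ _, hr⟩))).mono
          (Algebra.adjoin_mono ?_)
      rintro _ ⟨_, ⟨j, hj, rfl⟩, rfl⟩
      refine ⟨j.cast List.length_ofFn.symm, hj, ?_⟩
      rw [hget]; rfl
    · have hset : {c | c ∈ List.ofFn y} = Set.range y := by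
        ext c; exact (List.mem_ofFn).trans Iff.rfl
      rw [hset]
      obtain ⟨P, rfl⟩ := Ideal.Quotient.mkₐ_surjective A I b
      have : Algebra.adjoin A (Set.range y) =
          (Algebra.adjoin A (Set.range v)).map (Ideal.Quotient.mkₐ A I) := by
        rw [← Algebra.adjoin_image, ← Set.range_comp]; rfl
      induction P using MvPolynomial.induction_on with
      | C a => exact Subalgebra.algebraMap_mem _ a
      | add p q hp hq => rw [map_add]; exact add_mem hp hq
      | mul_X p t hp =>
        rw [map_mul]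
        refine mul_mem hp ?_
        rw [this]
        refine ⟨G t, hG t, ?_⟩
        exact (Ideal.Quotient.eq.mpr (hRI _ (Finset.mem_union_right _
          (Finset.mem_image_of_mem _ (Finset.mem_univ t))))).symm

instance : Preorder (Stage A B weak) where
  le j k := ∃ h : j.S ⊆ k.S, j.I.map (ren h) ≤ k.I
  le_refl j := ⟨subset_rfl, Ideal.map_le_iff_le_comap.mpr fun P hP => by
    show ren subset_rfl P ∈ j.I
    exact (rename_id_apply P).symm ▸ hP⟩
  le_trans j k m := fun ⟨h, h'⟩ ⟨g, g'⟩ => ⟨h.trans g, Ideal.map_le_iff_le_comap.mpr fun P hP => by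
    show ren (h.trans g) P ∈ m.I
    rw [← ren_ren h g]
    exact g' (Ideal.mem_map_of_mem _ (h' (Ideal.mem_map_of_mem _ hP)))⟩

/-- The transition maps. -/
noncomputable def trans' {j k : Stage A B weak} (h : j ≤ k) :
    MvPolynomial j.S A ⧸ j.I →ₐ[A] MvPolynomial k.S A ⧸ k.I :=
  Ideal.Quotient.liftₐ j.I ((Ideal.Quotient.mkₐ A k.I).comp (ren h.1)) fun _ hP =>
    Ideal.Quotient.eq_zero_iff_mem.mpr (h.2 (Ideal.mem_map_of_mem _ hP))

theorem trans'_mk {j k : Stage A B weak} (h : j ≤ k) (P : MvPolynomial j.S A) :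
    trans' h (Ideal.Quotient.mk j.I P) = Ideal.Quotient.mk k.I (ren h.1 P) := rfl

/-- The map to `B`. -/
noncomputable def toB (j : Stage A B weak) : MvPolynomial j.S A ⧸ j.I →ₐ[A] B :=
  Ideal.Quotient.liftₐ j.I (aeval Subtype.val) fun _ hP => j.le hP

theorem toB_trans' {j k : Stage A B weak} (h : j ≤ k) (z : MvPolynomial j.S A ⧸ j.I) :
    toB k (trans' h z) = toB j z := by
  obtain ⟨P, rfl⟩ := Ideal.Quotient.mk_surjective z
  exact aeval_ren h.1 P

variable (A B weak) in
/-- The diagram of stages. -/
noncomputable def diagram : Stage A B weak ⥤ Under (CommRingCat.of A) where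
  obj j := Under.mk (CommRingCat.ofHom (algebraMap A (MvPolynomial j.S A ⧸ j.I)))
  map {j k} f := Under.homMk (CommRingCat.ofHom (trans' (leOfHom f)).toRingHom)
    (CommRingCat.hom_ext (trans' (leOfHom f)).comp_algebraMap)
  map_id j := by
    ext z
    obtain ⟨P, rfl⟩ := Ideal.Quotient.mk_surjective z
    show trans' (leOfHom (𝟙 j)) (Ideal.Quotient.mk j.I P) = Ideal.Quotient.mk j.I P
    rw [trans'_mk]
    exact congrArg _ (rename_id_apply P)
  map_comp {j k m} f g := by
    ext z
    obtain ⟨P, rfl⟩ := Ideal.Quotient.mk_surjective z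
    show trans' (leOfHom (f ≫ g)) (Ideal.Quotient.mk j.I P) =
      trans' (leOfHom g) (trans' (leOfHom f) (Ideal.Quotient.mk j.I P))
    rw [trans'_mk, trans'_mk, trans'_mk, ren_ren]

variable (A B weak) in
/-- The cocone to `B`. -/
noncomputable def cocone : Cocone (diagram A B weak) where
  pt := Under.mk (CommRingCat.ofHom (algebraMap A B))
  ι :=
    { app := fun j => Under.homMk (CommRingCat.ofHom (toB j).toRingHom)
        (CommRingCat.hom_ext (toB j).comp_algebraMap)
      naturality := fun j k f => by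
        ext z
        exact toB_trans' (leOfHom f) z }

/-- Components of a cocone as ring homomorphisms. -/
noncomputable def app' (t : Cocone (diagram A B weak)) (j : Stage A B weak) :
    MvPolynomial j.S A ⧸ j.I →+* t.pt.right := (t.ι.app j).right.hom

variable (hc : ∀ E : Finset B, ∃ l : List B, Valid A weak l ∧
  (E : Set B) ⊆ Algebra.adjoin A {c : B | c ∈ l})

include hc

theorem isFiltered : IsFiltered (Stage A B weak) := by
  classical
  have : Nonempty (Stage A B weak) :=
    ⟨(exists_stage_ge hc ∅ ⊥ Submodule.fg_bot bot_le).choose⟩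
  have : IsDirectedOrder (Stage A B weak) := ⟨fun j k => by
    obtain ⟨m, h, hm⟩ := exists_stage_ge hc (j.S ∪ k.S)
      (j.I.map (ren Finset.subset_union_left) ⊔ k.I.map (ren Finset.subset_union_right))
      (Submodule.FG.sup (j.fg.map _) (k.fg.map _)) (sup_le (map_le_ker _ j.le) (map_le_ker _ k.le))
    refine ⟨m, ⟨Finset.subset_union_left.trans h, Ideal.map_le_iff_le_comap.mpr fun P hP => ?_⟩,
      ⟨Finset.subset_union_right.trans h, Ideal.map_le_iff_le_comap.mpr fun P hP => ?_⟩⟩
    · show ren _ P ∈ m.I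
      rw [← ren_ren Finset.subset_union_left h]
      exact hm (Ideal.mem_map_of_mem _ (Ideal.mem_sup_left (Ideal.mem_map_of_mem _ hP)))
    · show ren _ P ∈ m.I
      rw [← ren_ren Finset.subset_union_right h]
      exact hm (Ideal.mem_map_of_mem _ (Ideal.mem_sup_right (Ideal.mem_map_of_mem _ hP)))⟩
  infer_instance

theorem exists_eq_zero (j : Stage A B weak) (z : MvPolynomial j.S A ⧸ j.I) (hz : toB j z = 0) :
    ∃ (k : Stage A B weak) (h : j ≤ k), trans' h z = 0 := by
  obtain ⟨P, rfl⟩ := Ideal.Quotient.mk_surjective z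
  obtain ⟨k, h, hk⟩ := exists_stage_ge hc j.S (j.I ⊔ Ideal.span {P}) (Submodule.FG.sup j.fg (Submodule.fg_span_singleton P))
    (sup_le j.le (Ideal.span_le.mpr (Set.singleton_subset_iff.mpr hz)))
  refine ⟨k, ⟨h, (Ideal.map_mono le_sup_left).trans hk⟩, ?_⟩
  exact Ideal.Quotient.eq_zero_iff_mem.mpr
    (hk (Ideal.mem_map_of_mem _ (Ideal.mem_sup_right (Ideal.subset_span rfl))))

theorem exists_lift (b : B) : ∃ (j : Stage A B weak) (z : MvPolynomial j.S A ⧸ j.I), toB j z = b := by
  obtain ⟨j, h, -⟩ := exists_stage_ge hc {b} ⊥ Submodule.fg_bot bot_le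
  exact ⟨j, Ideal.Quotient.mk _ (X ⟨b, h (Finset.mem_singleton_self b)⟩), aeval_X _ _⟩

/-- `B` is the colimit of the stages. -/
noncomputable def isColimit : IsColimit (cocone A B weak) := by
  classical
  haveI := isFiltered hc
  have hwd : ∀ (t : Cocone (diagram A B weak)) (j k : Stage A B weak) (z : MvPolynomial j.S A ⧸ j.I)
      (w : MvPolynomial k.S A ⧸ k.I), toB j z = toB k w →
        app' t j z = app' t k w := by
    intro t j k z w e
    let m := IsFiltered.max j k
    have hj := leOfHom (IsFiltered.leftToMax j k)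
    have hk := leOfHom (IsFiltered.rightToMax j k)
    obtain ⟨n, hn, h0⟩ := exists_eq_zero hc m (trans' hj z - trans' hk w)
      (by rw [map_sub, toB_trans', toB_trans', e, sub_self])
    rw [map_sub, sub_eq_zero] at h0
    have e1 : ∀ {a b : Stage A B weak} (h : a ≤ b) (y : MvPolynomial a.S A ⧸ a.I),
        app' t b (trans' h y) = app' t a y := fun {a b} h y =>
      congrFun (congrArg (fun g : (diagram A B weak).obj a ⟶ t.pt =>
        (g.right : MvPolynomial a.S A ⧸ a.I → t.pt.right)) (t.w (homOfLE h))) y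
    rw [← e1 hj, ← e1 hk, ← e1 hn, ← e1 hn (trans' hk w), h0]
  choose st el hel using exists_lift hc
  refine
    { desc := fun t => Under.homMk (CommRingCat.ofHom
        { toFun := fun b => app' t (st b) (el b)
          map_one' := (hwd t (st 1) (st 1) _ 1 (by rw [hel, map_one])).trans (map_one _)
          map_mul' := fun a b => ?_
          map_zero' := (hwd t (st 0) (st 0) _ 0 (by rw [hel, map_zero])).trans (map_zero _)
          map_add' := fun a b => ?_ }) ?_
      fac := fun t j => ?_
      uniq := fun t g hg => ?_ }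
  · let m := IsFiltered.max (st a) (st b)
    have ha := leOfHom (IsFiltered.leftToMax (st a) (st b))
    have hb := leOfHom (IsFiltered.rightToMax (st a) (st b))
    show app' t (st (a * b)) (el (a * b)) = app' t (st a) (el a) * app' t (st b) (el b)
    rw [hwd t (st (a * b)) m _ (trans' ha (el a) * trans' hb (el b))
      (by rw [map_mul, toB_trans', toB_trans', hel, hel, hel]),
      hwd t (st a) m _ (trans' ha (el a)) (by rw [toB_trans']),
      hwd t (st b) m _ (trans' hb (el b)) (by rw [toB_trans'])]
    exact map_mul (app' t m) _ _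
  · let m := IsFiltered.max (st a) (st b)
    have ha := leOfHom (IsFiltered.leftToMax (st a) (st b))
    have hb := leOfHom (IsFiltered.rightToMax (st a) (st b))
    show app' t (st (a + b)) (el (a + b)) = app' t (st a) (el a) + app' t (st b) (el b)
    rw [hwd t (st (a + b)) m _ (trans' ha (el a) + trans' hb (el b))
      (by rw [map_add, toB_trans', toB_trans', hel, hel, hel]),
      hwd t (st a) m _ (trans' ha (el a)) (by rw [toB_trans']),
      hwd t (st b) m _ (trans' hb (el b)) (by rw [toB_trans'])]
    exact map_add (app' t m) _ _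
  · ext a
    show app' t (st (algebraMap A B a)) (el (algebraMap A B a)) = t.pt.hom a
    rw [hwd t _ (st (algebraMap A B a)) _ (algebraMap A _ a) (by rw [hel, AlgHom.commutes])]
    exact congrFun (congrArg (fun g : CommRingCat.of A ⟶ t.pt.right => (g : A → t.pt.right))
      (Under.w (t.ι.app (st (algebraMap A B a))))) a
  · ext z
    exact hwd t (st (toB j z)) j _ z (hel _)
  · ext b
    show g.right b = app' t (st b) (el b)
    rw [app', ← hg (st b)]
    exact congrArg g.right (hel b).symm

omit hc

/-- A universal homeomorphism of affine schemes is a filtered colimit of finitely presented ones. -/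
theorem exists_approx {A B : Type u} [CommRing A] [CommRing B] (φ : A →+* B)
    (hφ : FlatMor.IsUnivHomeo (Spec.map (CommRingCat.ofHom φ))) (weak : Prop)
    (h : weak ∨ ∀ x, Function.Surjective ((Spec.map (CommRingCat.ofHom φ)).residueFieldMap x)) :
    ∃ (J : Type u) (_ : SmallCategory J) (_ : IsFiltered J) (F : J ⥤ Under (CommRingCat.of A))
      (c : Limits.Cocone F) (_ : Limits.IsColimit c),
      (∀ j, (F.obj j).hom.hom.FinitePresentation ∧ FlatMor.IsUnivHomeo (Spec.map (F.obj j).hom) ∧
        (¬ weak → ∀ x, Function.Surjective ((Spec.map (F.obj j).hom).residueFieldMap x))) ∧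
      Nonempty (c.pt ≅ Under.mk (CommRingCat.ofHom φ)) := by
  letI := φ.toAlgebra
  have hc := chains_of_isUnivHomeo (A := A) (B := B) hφ h
  refine ⟨Stage A B weak, inferInstance, isFiltered hc, diagram A B weak, cocone A B weak,
    isColimit hc, fun j => ⟨?_, ?_, fun hw x => ?_⟩, ⟨Iso.refl _⟩⟩
  · haveI : Algebra.FinitePresentation A (MvPolynomial j.S A) := inferInstance
    exact RingHom.finitePresentation_algebraMap.mpr (Algebra.FinitePresentation.quotient j.fg)
  · have : Surjective (Spec.map (CommRingCat.ofHom (algebraMap A (MvPolynomial j.S A ⧸ j.I)))) := by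
      have := surjective hφ
      have e : Spec.map (CommRingCat.ofHom φ) = Spec.map (CommRingCat.ofHom (toB j).toRingHom) ≫
          Spec.map (CommRingCat.ofHom (algebraMap A (MvPolynomial j.S A ⧸ j.I))) := by
        rw [← Spec.map_comp]
        congr 1
        exact CommRingCat.hom_ext (toB j).comp_algebraMap.symm
      rw [e] at this
      exact Surjective.of_comp (Spec.map (CommRingCat.ofHom (toB j).toRingHom)) _
    exact isUnivHomeo_of_chains' j.good
  · obtain rfl : weak = False := eq_false hw
    exact residueFieldMap_surjective_of_chains j.good x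

end Groth.Agent.UnivHomeo
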