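import Groth.Agent.UnivHomeo.Basic
import Mathlib

/-!
# Subintegral and weakly subintegral extensions
-/

universe u

namespace Groth.Agent.UnivHomeo

variable {A B : Type u} [CommRing A] [CommRing B] [Algebra A B]

/-- `x` is an elementary (weakly) subintegral step over `S`. -/
def Step (weak : Prop) (S : Set B) (x : B) : Prop :=
  (x ^ 2 ∈ S ∧ x ^ 3 ∈ S) ∨ (weak ∧ ∃ p : ℕ, p.Prime ∧ (p : B) * x ∈ S ∧ x ^ p ∈ S)

theorem mem_of_pow {C : Subalgebra A B} (hsn : ∀ x : B, x ^ 2 ∈ C → x ^ 3 ∈ C → x ∈ C) {x : B}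
    {N : ℕ} (h : ∀ n, N ≤ n → x ^ n ∈ C) : x ∈ C := by
  induction N with
  | zero => simpa using h 1 (Nat.zero_le _)
  | succ N ih =>
    rcases Nat.eq_zero_or_pos N with rfl | hN
    · simpa using h 1 le_rfl
    refine ih fun n hn => ?_
    rcases hn.eq_or_lt with rfl | hn
    · exact hsn _ (by rw [← pow_mul]; exact h _ (by omega)) (by rw [← pow_mul]; exact h _ (by omega))
    · exact h n hn

/-- An integral extension, bijective on primes with radicial residue extensions, in which `C` is
closed under the elementary steps, is `C` itself. -/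
theorem mem_of_closed [Algebra.IsIntegral A B] (C : Subalgebra A B)
    (hinj : ∀ q q' : Ideal B, q.IsPrime → q'.IsPrime →
      q.comap (algebraMap A B) = q'.comap (algebraMap A B) → q = q')
    (hsn : ∀ x : B, x ^ 2 ∈ C → x ^ 3 ∈ C → x ∈ C)
    (hres : ∀ (q : Ideal B), q.IsPrime → ∀ b : B, ∃ (m : ℕ) (c s : A), algebraMap A B s ∉ q ∧
      (m = 1 ∨ ∃ p e : ℕ, p.Prime ∧ (p : B) ∈ q ∧ m = p ^ e ∧
        ∀ x : B, (p : B) * x ∈ C → x ^ p ∈ C → x ∈ C) ∧
      algebraMap A B s * b ^ m - algebraMap A B c ∈ q) (b : B) : b ∈ C := by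
  by_contra hb
  haveI : Algebra.IsIntegral C B := Algebra.IsIntegral.tower_top (R := A)
  let I : Ideal C :=
    { carrier := {c | ∀ i : ℕ, (c : B) * b ^ i ∈ C}
      add_mem' := fun {x y} hx hy i => by
        show ((x : B) + y) * b ^ i ∈ C
        rw [add_mul]; exact add_mem (hx i) (hy i)
      zero_mem' := fun i => by show (0 : B) * b ^ i ∈ C; rw [zero_mul]; exact C.zero_mem
      smul_mem' := fun r x hx i => by
        show ((r : B) * x) * b ^ i ∈ C
        rw [mul_assoc]; exact mul_mem r.2 (hx i) }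
  have hI : I ≠ ⊤ := fun h => hb (by
    have := (h.ge (Submodule.mem_top : (1 : C) ∈ ⊤)) 1
    simpa using this)
  obtain ⟨M, hM, hIM⟩ := Ideal.exists_le_maximal I hI
  haveI := hM.isPrime
  obtain ⟨p, hp, -⟩ := Ideal.exists_minimalPrimes_le hIM
  haveI := hp.1.1
  obtain ⟨q, -, hq, hqp⟩ := Ideal.exists_ideal_over_prime_of_isIntegral (S := B) p ⊥ (by
    rw [← RingHom.ker_eq_comap_bot]
    exact ((RingHom.injective_iff_ker_eq_bot _).mp Subtype.val_injective).le.trans bot_le)
  haveI := hq
  have huniq : ∀ q' : Ideal B, q'.IsPrime → q'.comap (algebraMap C B) = p → q' = q := by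
    intro q' hq' h
    refine hinj q' q hq' hq ?_
    rw [IsScalarTower.algebraMap_eq A C B, ← Ideal.comap_comap, ← Ideal.comap_comap, h, hqp]
  let D : Subalgebra C B := Algebra.adjoin C {b}
  have hbD : b ∈ D := Algebra.subset_adjoin rfl
  haveI : Algebra.IsIntegral D B := Algebra.IsIntegral.tower_top (R := C)
  have hID : ∀ (c : C), c ∈ I → ∀ d : D, (c : B) * d ∈ C := by
    rintro c hc ⟨d, hd⟩
    show (c : B) * d ∈ C
    rw [show D = (Polynomial.aeval b).range from Algebra.adjoin_singleton_eq_range_aeval C b] at hd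
    obtain ⟨P, rfl⟩ := hd
    show (c : B) * Polynomial.aeval b P ∈ C
    induction P using Polynomial.induction_on' with
    | add P Q hP hQ => rw [map_add, mul_add]; exact add_mem hP hQ
    | monomial n a =>
      rw [Polynomial.aeval_monomial, mul_left_comm]
      exact mul_mem a.2 (hc n)
  have hJC : ∀ d ∈ I.map (algebraMap C D), ((d : D) : B) ∈ C := by
    intro d hd
    let K : AddSubmonoid D :=
      { carrier := {d | ∀ e : D, ((d * e : D) : B) ∈ C}
        add_mem' := fun {x y} hx hy e => by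
          rw [add_mul]; exact add_mem (hx e) (hy e)
        zero_mem' := fun e => by simp }
    suffices d ∈ K by simpa using this 1
    refine Submodule.span_induction ?_ K.zero_mem (fun x y _ _ => K.add_mem) ?_ hd
    · rintro _ ⟨c, hc, rfl⟩ e
      exact hID c hc e
    · intro a x _ hx e
      rw [smul_eq_mul, mul_comm a, mul_assoc]
      exact hx _
  -- elements of `D` in `q` are multiplied into `C`
  have hq' : ∀ d : D, (d : B) ∈ q → ∃ u : C, u ∉ p ∧ (u : B) * d ∈ C := by
    intro d hd
    obtain ⟨s, hs, k, hsk⟩ : ∃ s : C, s ∉ p ∧ ∃ k : ℕ,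
        algebraMap C D s * d ^ k ∈ p.map (algebraMap C D) := by
      by_contra hno
      let T : Submonoid D := (p.primeCompl.map (algebraMap C D)) ⊔ Submonoid.powers d
      have hdisj : Disjoint ((p.map (algebraMap C D) : Ideal D) : Set D) (T : Set D) := by
        rw [Set.disjoint_left]
        rintro z hz hzT
        obtain ⟨_, ⟨s, hs, rfl⟩, _, ⟨k, rfl⟩, rfl⟩ := Submonoid.mem_sup.mp hzT
        exact hno ⟨s, hs, k, hz⟩
      obtain ⟨Q, hQ, hQle, hQd⟩ := Ideal.exists_le_prime_disjoint _ _ hdisj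
      have hQp : Q.comap (algebraMap C D) = p := by
        refine le_antisymm (fun c hc => ?_) (Ideal.map_le_iff_le_comap.mp hQle)
        by_contra hcp
        exact Set.disjoint_left.mp hQd hc (Submonoid.mem_sup_left ⟨c, hcp, rfl⟩)
      obtain ⟨q', -, hq'', hq'Q⟩ := Ideal.exists_ideal_over_prime_of_isIntegral (S := B) Q ⊥ (by
        rw [← RingHom.ker_eq_comap_bot]
        exact ((RingHom.injective_iff_ker_eq_bot _).mp Subtype.val_injective).le.trans bot_le)
      have h' := huniq q' hq'' (by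
        rw [IsScalarTower.algebraMap_eq C D B, ← Ideal.comap_comap, hq'Q, hQp])
      have : d ∈ Q := by rw [← hq'Q, h']; exact hd
      exact Set.disjoint_left.mp hQd this (Submonoid.mem_sup_right (Submonoid.mem_powers d))
    let J : Ideal D :=
      { carrier := {z | ∃ t : C, t ∉ p ∧ algebraMap C D t * z ∈ (I.map (algebraMap C D)).radical}
        add_mem' := by
          rintro x y ⟨t, ht, hx⟩ ⟨t', ht', hy⟩
          refine ⟨t * t', fun h => (hp.1.1.mem_or_mem h).elim ht ht', ?_⟩
          rw [map_mul, mul_add]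
          refine add_mem ?_ ?_
          · rw [mul_comm (algebraMap C D t), mul_assoc]
            exact Ideal.mul_mem_left _ _ hx
          · rw [mul_assoc]
            exact Ideal.mul_mem_left _ _ hy
        zero_mem' := ⟨1, fun h => hp.1.1.ne_top ((Ideal.eq_top_iff_one _).mpr h), by simp⟩
        smul_mem' := by
          rintro r x ⟨t, ht, hx⟩
          exact ⟨t, ht, by rw [smul_eq_mul, mul_left_comm]; exact Ideal.mul_mem_left _ _ hx⟩ }
    have hpJ : p.map (algebraMap C D) ≤ J := by
      rw [Ideal.map_le_iff_le_comap]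
      intro m hm
      obtain ⟨t, ht, k, hk⟩ : ∃ t : C, t ∉ p ∧ ∃ k : ℕ, t * m ^ k ∈ I := by
        by_contra hno
        have hdisj : Disjoint (I : Set C) ((p.primeCompl ⊔ Submonoid.powers m : Submonoid C) : Set C) := by
          rw [Set.disjoint_left]
          rintro z hz hzT
          obtain ⟨t, ht, _, ⟨k, rfl⟩, rfl⟩ := Submonoid.mem_sup.mp hzT
          exact hno ⟨t, ht, k, hz⟩
        obtain ⟨Q, hQ, hQle, hQd⟩ := Ideal.exists_le_prime_disjoint _ _ hdisj
        have hQp : Q ≤ p := fun c hc => by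
          by_contra hcp
          exact Set.disjoint_left.mp hQd hc (Submonoid.mem_sup_left hcp)
        exact Set.disjoint_left.mp hQd (hp.2 ⟨hQ, hQle⟩ hQp hm)
          (Submonoid.mem_sup_right (Submonoid.mem_powers m))
      refine ⟨t, ht, k + 1, ?_⟩
      rw [← map_mul, ← map_pow]
      refine Ideal.mem_map_of_mem _ ?_
      convert I.mul_mem_left (t ^ k * m) hk using 1
      ring
    obtain ⟨t, ht, n, hn⟩ := hpJ hsk
    refine ⟨t * s, fun h => (hp.1.1.mem_or_mem h).elim ht hs, ?_⟩
    have hn' : (algebraMap C D (t * s) * d) ^ (n * k + n) ∈ I.map (algebraMap C D) := by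
      have h2 : (algebraMap C D (t * s) * d) ^ (n * k + n) =
          (algebraMap C D t * (algebraMap C D s * d ^ k)) ^ n *
            (algebraMap C D (t * s) ^ (n * k) * d ^ n) := by
        simp only [map_mul, mul_pow, ← pow_mul, pow_add, mul_comm k n]
        ring
      rw [h2]
      exact Ideal.mul_mem_right _ _ hn
    refine mem_of_pow hsn (x := ((t * s : C) : B) * d) (N := n * k + n) fun i hi => ?_
    obtain ⟨j, rfl⟩ := Nat.exists_eq_add_of_le hi
    have h3 := hJC _ (Ideal.mul_mem_right ((algebraMap C D (t * s) * d) ^ j) _ hn')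
    rw [← pow_add] at h3
    exact h3
  -- so is `b`
  obtain ⟨m, c, s, hs, hm, hmem⟩ := hres q hq b
  let d₀ : D := algebraMap A D s * ⟨b, hbD⟩ ^ m - algebraMap A D c
  obtain ⟨u, hu, hud⟩ := hq' d₀ hmem
  have hv : u * algebraMap A C s ∉ p := fun h => (hp.1.1.mem_or_mem h).elim hu (fun h' => hs (by
    rw [← hqp] at h'
    exact h'))
  have hvb : ((u * algebraMap A C s : C) : B) * b ^ m ∈ C := by
    have h1 : ((u * algebraMap A C s : C) : B) * b ^ m =
        (u : B) * (d₀ : B) + (u : B) * algebraMap A B c := by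
      show (u : B) * algebraMap A B s * b ^ m =
        (u : B) * (algebraMap A B s * b ^ m - algebraMap A B c) + (u : B) * algebraMap A B c
      ring
    rw [h1]
    exact add_mem hud (mul_mem u.2 (C.algebraMap_mem c))
  obtain ⟨w, hw, hwb⟩ : ∃ w : C, w ∉ p ∧ (w : B) * b ∈ C := by
    rcases hm with rfl | ⟨l, e, hl, hlq, rfl, hlC⟩
    · exact ⟨_, hv, by simpa using hvb⟩
    · generalize (u * algebraMap A C s) = v at hv hvb
      clear hmem hud d₀
      induction e generalizing v with
      | zero => exact ⟨v, hv, by simpa using hvb⟩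
      | succ e ih =>
        let y : B := (v : B) * b ^ l ^ e
        have hy : y ^ l ∈ C := by
          have h1 : y ^ l = (v : B) ^ (l - 1) * ((v : B) * b ^ l ^ (e + 1)) := by
            rw [← mul_assoc, ← pow_succ, Nat.sub_add_cancel hl.one_le, mul_pow, ← pow_mul, pow_succ]
          rw [h1]
          exact mul_mem (pow_mem v.2 _) hvb
        obtain ⟨u', hu', hu'y⟩ := hq' ((l : D) * (algebraMap C D v * ⟨b, hbD⟩ ^ l ^ e)) (by
          show ((l : D) : B) * y ∈ q
          exact q.mul_mem_right _ (by simpa using hlq))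
        have h3 : (u' : B) * y ∈ C := by
          refine hlC _ ?_ (by rw [mul_pow]; exact mul_mem (pow_mem u'.2 _) hy)
          convert hu'y using 1
          simp [y, Subalgebra.algebraMap_mk]
          first | rfl | ring | (show _ = (u' : B) * ((l : B) * ((v : B) * b ^ l ^ e)); ring)
        refine ih (u' * v) (fun h => (hp.1.1.mem_or_mem h).elim hu' hv) ?_
        show (u' : B) * (v : B) * b ^ l ^ e ∈ C
        rw [mul_assoc]; exact h3
  obtain ⟨P, hPm, hP⟩ := Algebra.IsIntegral.isIntegral (R := C) b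
  refine hw (hp.1.1.mem_of_pow_mem P.natDegree (hp.1.2 ?_))
  intro i
  induction i using Nat.strong_induction_on with
  | _ i ih =>
    rcases le_or_gt i P.natDegree with hi | hi
    · obtain ⟨j, hj⟩ := Nat.exists_eq_add_of_le hi
      have : ((w ^ P.natDegree : C) : B) * b ^ i = (w : B) ^ j * ((w : B) * b) ^ i := by
        rw [hj]
        show (w : B) ^ (i + j) * b ^ i = _
        rw [mul_pow, pow_add]; ring
      rw [this]
      exact mul_mem (pow_mem w.2 _) (pow_mem hwb _)
    · obtain ⟨j, rfl⟩ := Nat.exists_eq_add_of_le hi.le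
      rw [Polynomial.eval₂_eq_sum_range, Finset.sum_range_succ, Polynomial.Monic.coeff_natDegree hPm,
        map_one, one_mul, add_eq_zero_iff_eq_neg'] at hP
      rw [pow_add, hP, neg_mul, mul_neg, Finset.sum_mul, Finset.mul_sum]
      refine neg_mem (sum_mem fun k hk => ?_)
      rw [Finset.mem_range] at hk
      have h1 := ih (k + j) (by omega)
      rw [pow_add] at h1
      rw [mul_assoc, mul_left_comm]
      exact mul_mem (P.coeff k).2 h1

/-- Entries preceding index `i`. -/
def Pre (l : List B) (i : Fin l.length) : Set B := {b | ∃ j : Fin l.length, j < i ∧ b = l.get j}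

/-- The list is a chain of elementary steps over `A`. -/
def Valid (A : Type u) [CommRing A] [Algebra A B] (weak : Prop) (l : List B) : Prop :=
  ∀ i : Fin l.length, Step weak (Algebra.adjoin A (Pre l i) : Set B) (l.get i)

theorem Step.mono {weak : Prop} {S T : Set B} (h : S ⊆ T) {x : B} (hx : Step weak S x) :
    Step weak T x :=
  hx.imp (fun h' => ⟨h h'.1, h h'.2⟩)
    fun ⟨hw, p, hp, h1, h2⟩ => ⟨hw, p, hp, h h1, h h2⟩

theorem Valid.append {weak : Prop} {l₁ l₂ : List B} (h₁ : Valid A weak l₁) (h₂ : Valid A weak l₂) :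
    Valid A weak (l₁ ++ l₂) := by
  rintro ⟨i, hi⟩
  by_cases h : i < l₁.length
  · have e : (l₁ ++ l₂).get ⟨i, hi⟩ = l₁.get ⟨i, h⟩ := List.getElem_append_left h
    rw [e]
    refine (h₁ ⟨i, h⟩).mono (Algebra.adjoin_mono ?_)
    rintro _ ⟨j, hj, rfl⟩
    exact ⟨⟨j, by rw [List.length_append]; omega⟩, hj, (List.getElem_append_left j.2).symm⟩
  · have hk : i - l₁.length < l₂.length := by rw [List.length_append] at hi; omega
    have e : (l₁ ++ l₂).get ⟨i, hi⟩ = l₂.get ⟨i - l₁.length, hk⟩ :=
      List.getElem_append_right (by omega)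
    rw [e]
    refine (h₂ ⟨_, hk⟩).mono (Algebra.adjoin_mono ?_)
    rintro _ ⟨j, hj, rfl⟩
    have hjlt : j.1 < i - l₁.length := hj
    refine ⟨⟨l₁.length + j, by rw [List.length_append]; omega⟩,
      show l₁.length + j.1 < i by omega, ?_⟩
    simp

theorem Valid.snoc {weak : Prop} {l : List B} (h : Valid A weak l) {x : B}
    (hx : Step weak (Algebra.adjoin A {b : B | b ∈ l} : Set B) x) : Valid A weak (l ++ [x]) := by
  rintro ⟨i, hi⟩
  by_cases hil : i < l.length
  · have e : (l ++ [x]).get ⟨i, hi⟩ = l.get ⟨i, hil⟩ := List.getElem_append_left hil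
    rw [e]
    refine (h ⟨i, hil⟩).mono (Algebra.adjoin_mono ?_)
    rintro _ ⟨j, hj, rfl⟩
    exact ⟨⟨j, by rw [List.length_append]; omega⟩, hj, (List.getElem_append_left j.2).symm⟩
  · have hi' : i = l.length := by rw [List.length_append, List.length_singleton] at hi; omega
    subst hi'
    have e : (l ++ [x]).get ⟨l.length, hi⟩ = x := by simp
    rw [e]
    refine hx.mono (Algebra.adjoin_mono fun b hb => ?_)
    obtain ⟨j, hj, rfl⟩ := List.getElem_of_mem hb
    exact ⟨⟨j, by rw [List.length_append]; omega⟩, hj, (List.getElem_append_left hj).symm⟩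

variable (A) in
/-- Elements reached by chains of elementary steps. -/
def reach (weak : Prop) : Subalgebra A B where
  carrier := {b | ∃ l : List B, Valid A weak l ∧ b ∈ Algebra.adjoin A {c : B | c ∈ l}}
  mul_mem' := by
    rintro a b ⟨l₁, h₁, ha⟩ ⟨l₂, h₂, hb⟩
    exact ⟨l₁ ++ l₂, h₁.append h₂,
      mul_mem (Algebra.adjoin_mono (fun c hc => List.mem_append_left _ hc) ha)
        (Algebra.adjoin_mono (fun c hc => List.mem_append_right _ hc) hb)⟩
  add_mem' := by
    rintro a b ⟨l₁, h₁, ha⟩ ⟨l₂, h₂, hb⟩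
    exact ⟨l₁ ++ l₂, h₁.append h₂,
      add_mem (Algebra.adjoin_mono (fun c hc => List.mem_append_left _ hc) ha)
        (Algebra.adjoin_mono (fun c hc => List.mem_append_right _ hc) hb)⟩
  algebraMap_mem' a := ⟨[], fun i => i.elim0, Subalgebra.algebraMap_mem _ a⟩

theorem reach_step {weak : Prop} {x : B} (hx : Step weak ((reach A weak : Subalgebra A B) : Set B) x) :
    x ∈ reach A weak := by
  obtain ⟨a, b, ha, hb, hst⟩ : ∃ a b, a ∈ reach A weak ∧ b ∈ reach A weak ∧
      ∀ S : Set B, a ∈ S → b ∈ S → Step weak S x := by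
    rcases hx with ⟨h1, h2⟩ | ⟨hw, p, hp, h1, h2⟩
    · exact ⟨_, _, h1, h2, fun S ha hb => Or.inl ⟨ha, hb⟩⟩
    · exact ⟨_, _, h1, h2, fun S ha hb => Or.inr ⟨hw, p, hp, ha, hb⟩⟩
  obtain ⟨l₁, h₁, ha'⟩ := ha
  obtain ⟨l₂, h₂, hb'⟩ := hb
  exact ⟨l₁ ++ l₂ ++ [x], (h₁.append h₂).snoc (hst _
    (Algebra.adjoin_mono (fun c hc => List.mem_append_left _ hc) ha')
    (Algebra.adjoin_mono (fun c hc => List.mem_append_right _ hc) hb')),
    Algebra.subset_adjoin (by simp)⟩

theorem exists_chain {weak : Prop} (h : ∀ b : B, b ∈ (reach A weak : Subalgebra A B)) (E : Finset B) :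
    ∃ l : List B, Valid A weak l ∧ (E : Set B) ⊆ Algebra.adjoin A {c : B | c ∈ l} := by
  classical
  induction E using Finset.induction_on with
  | empty => exact ⟨[], fun i => i.elim0, by simp⟩
  | insert a E ha ih =>
    obtain ⟨l₁, h₁, hE⟩ := ih
    obtain ⟨l₂, h₂, ha⟩ := h a
    refine ⟨l₁ ++ l₂, h₁.append h₂, ?_⟩
    rw [Finset.coe_insert, Set.insert_subset_iff]
    exact ⟨Algebra.adjoin_mono (fun c hc => List.mem_append_right _ hc) ha,
      hE.trans (Algebra.adjoin_mono fun c hc => List.mem_append_left _ hc)⟩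

/-- A subalgebra containing all elementary steps over itself contains every chain. -/
theorem le_of_step {weak : Prop} (S : Subalgebra A B)
    (hS : ∀ x, Step weak (S : Set B) x → x ∈ S) {l : List B} (hl : Valid A weak l) :
    Algebra.adjoin A {c : B | c ∈ l} ≤ S := by
  have : ∀ (n : ℕ) (hn : n < l.length), l.get ⟨n, hn⟩ ∈ S := by
    intro n
    induction n using Nat.strong_induction_on with
    | _ n ih =>
      intro hn
      refine hS _ ((hl ⟨n, hn⟩).mono (Algebra.adjoin_le ?_))
      rintro _ ⟨j, hj, rfl⟩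
      exact ih j.1 hj j.2
  refine Algebra.adjoin_le fun c hc => ?_
  obtain ⟨n, hn, rfl⟩ := List.getElem_of_mem hc
  exact this n hn

end Groth.Agent.UnivHomeo
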